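import Groth.Agent.SepFld.Ring
import Groth.Agent.Fibres16.Separating
import Groth.Agent.LimTop.PullSec
import Groth.Agent.Props.QStalk
import Groth.Agent.QCoh.Pullback

/-!
# Separating families of quasi-coherent modules on affine pieces
-/

set_option autoImplicit false
set_option linter.style.haveILetI false
universe u

open CategoryTheory AlgebraicGeometry TopologicalSpace Opposite
open Groth.Agent.Fibres16.Separating Groth.Agent.PullStalk.Sky Groth.Agent.QCoh
open Groth.Agent.Props.QStalk Groth.Agent.LimTop
open scoped TensorProduct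

noncomputable section

namespace Groth.Agent.SepFld

variable {X X' : Scheme.{u}} {F : X.Modules} [F.IsQuasicoherent] {ι : Type u} {G : ι → X.Modules}

/-- Sections of a family, as linear maps. -/
def secLin (u : ∀ i, F ⟶ G i) (W : X.Opens) (i : ι) : Γ(F, W) →ₗ[Γ(X, W)] Γ(G i, W) where
  toFun := (u i).app W
  map_add' := map_add _
  map_smul' r x := Scheme.Modules.Hom.app_smul (u i) r x

theorem eq_zero_of_res_zero {U W : X.Opens} (h : W ≤ U) {M : X.Modules} {t : Γ(M, U)} {x : X}
    (hx : x ∈ W) (ht : res M h t = 0) : germM M U x (h hx) t = 0 := by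
  have h1 : germM M W x hx (res M h t) = germM M U x (h hx) t := M.presheaf.germ_res_apply _ x hx t
  rw [← h1, ht, germM_zero]

/-- A separating family is jointly injective on every basic open of an affine open. -/
theorem MJI_of_isSep {u : ∀ i, F ⟶ G i} (hu : IsSep u) {W : X.Opens} (hW : IsAffineOpen W) :
    MJI (secLin u W) := by
  intro h x hx
  haveI : Fact (IsAffineOpen W) := ⟨hW⟩
  have h0 : resLin F h x = 0 := by
    refine hu (X.basicOpen h) _ fun i => ?_
    obtain ⟨m, hm⟩ := hx i
    have h1 : res (G i) (X.basicOpen_le h) (h ^ m • (u i).app W x) = 0 :=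
      (congrArg (res (G i) (X.basicOpen_le h)) hm).trans (map_zero _)
    rw [res_smul, map_pow] at h1
    have h2 : (u i).app (X.basicOpen h) (resLin F h x) = res (G i) (X.basicOpen_le h) ((u i).app W x) :=
      NatTrans.naturality_apply (u i).mapPresheaf (homOfLE (X.basicOpen_le h)).op x
    rw [h2]
    have hu' : IsUnit (rres (X.basicOpen_le h) h) := RingedSpace.isUnit_res_basicOpen _ h
    exact ((hu'.pow m).smul_eq_zero).mp h1
  obtain ⟨⟨_, m, rfl⟩, hm⟩ := (IsLocalizedModule.eq_zero_iff (Submonoid.powers h) (resLin F h)).mp h0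
  exact ⟨m, hm⟩

variable [∀ i, (G i).IsQuasicoherent]

/-- Joint injectivity on affine pieces gives a separating pullback. -/
theorem isSep_pullback (u : ∀ i, F ⟶ G i) (g : X' ⟶ X)
    (hloc : ∀ x' : X', ∃ (W : X.Opens) (P : X'.Opens) (_ : IsAffineOpen W) (_ : IsAffineOpen P)
      (h : P ≤ g ⁻¹ᵁ W), x' ∈ P ∧
      letI := (g.appLE W P h).hom.toAlgebra
      MJI (fun i => (secLin u W i).baseChange Γ(X', P))) :
    IsSep (fun i => (Scheme.Modules.pullback g).map (u i)) := by
  intro V t ht
  refine eq_zero_of_germs _ V t fun x' hx' => ?_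
  obtain ⟨W, P, hW, hP, h, hxP, hMJI⟩ := hloc x'
  obtain ⟨a, haV, hxa⟩ := hP.exists_basicOpen_le ⟨x', hx'⟩ hxP
  letI := (g.appLE W P h).hom.toAlgebra
  let F' := (Scheme.Modules.pullback g).obj F
  haveI : F'.IsQuasicoherent := isQuasicoherent_pullback g F
  haveI : Fact (IsAffineOpen P) := ⟨hP⟩
  refine eq_zero_of_res_zero haV hxa ?_
  obtain ⟨⟨z, ⟨_, n, rfl⟩⟩, hz⟩ := IsLocalizedModule.surj (Submonoid.powers a) (resLin F' a) (res F' haV t)
  letI := secModule g F h
  haveI : IsScalarTower Γ(X, W) Γ(X', P) Γ(F', P) := IsScalarTower.of_algebraMap_smul fun _ _ => rfl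
  have hF := isBaseChange_unitSec g F h hW hP
  obtain ⟨w, rfl⟩ := hF.equiv.surjective z
  have hz' : res F' (X'.basicOpen_le a) (hF.equiv w) =
      rres (X'.basicOpen_le a) (a ^ n) • res F' haV t := hz.symm
  have hw : ∀ i, ∃ m : ℕ, a ^ m • (secLin u W i).baseChange Γ(X', P) w = 0 := by
    intro i
    let G' := (Scheme.Modules.pullback g).obj (G i)
    haveI : G'.IsQuasicoherent := isQuasicoherent_pullback g (G i)
    letI := secModule g (G i) h
    haveI : IsScalarTower Γ(X, W) Γ(X', P) Γ(G', P) := IsScalarTower.of_algebraMap_smul fun _ _ => rfl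
    have hG := isBaseChange_unitSec g (G i) h hW hP
    let u' := (Scheme.Modules.pullback g).map (u i)
    have key : ∀ w, hG.equiv ((secLin u W i).baseChange Γ(X', P) w) = u'.app P (hF.equiv w) := by
      intro w
      induction w using TensorProduct.induction_on with
      | zero => simp
      | tmul r m =>
        rw [LinearMap.baseChange_tmul, hG.equiv_tmul, hF.equiv_tmul, Scheme.Modules.Hom.app_smul]
        exact congrArg (r • ·) (unitSec_map g F h (u i) m).symm
      | add p q hp hq => simp only [map_add, hp, hq]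
    have h1 : res G' (X'.basicOpen_le a) (hG.equiv ((secLin u W i).baseChange Γ(X', P) w)) = 0 := by
      rw [key]
      have e1 : res G' (X'.basicOpen_le a) (u'.app P (hF.equiv w)) =
          u'.app (X'.basicOpen a) (res F' (X'.basicOpen_le a) (hF.equiv w)) :=
        (NatTrans.naturality_apply u'.mapPresheaf (homOfLE (X'.basicOpen_le a)).op _).symm
      have e2 : u'.app (X'.basicOpen a) (res F' haV t) = res G' haV (u'.app V t) :=
        NatTrans.naturality_apply u'.mapPresheaf (homOfLE haV).op t
      rw [e1, hz', Scheme.Modules.Hom.app_smul, e2,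
        show u'.app V t = 0 from ht i, map_zero, smul_zero]
    obtain ⟨⟨_, m, rfl⟩, hm⟩ :=
      (IsLocalizedModule.eq_zero_iff (Submonoid.powers a) (resLin G' a)).mp h1
    refine ⟨m, hG.equiv.injective ?_⟩
    rw [map_smul, map_zero]
    exact hm
  obtain ⟨m, hm⟩ := hMJI a w hw
  have hm' : a ^ m • hF.equiv w = 0 := by rw [← map_smul, hm, map_zero]
  have h3 := congrArg (res F' (X'.basicOpen_le a)) hm'
  rw [res_smul, hz', smul_smul, ← map_mul, map_zero] at h3
  have hu : IsUnit (rres (X'.basicOpen_le a) (a ^ m * a ^ n)) := by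
    rw [← pow_add, map_pow]
    exact (RingedSpace.isUnit_res_basicOpen _ a).pow _
  exact hu.smul_eq_zero.mp h3

/-- A separating pullback is jointly injective on the base-changed sections of an affine piece. -/
theorem MJI_baseChange_of_isSep {u : ∀ i, F ⟶ G i} (g : X' ⟶ X)
    (hu : IsSep (fun i => (Scheme.Modules.pullback g).map (u i))) {W : X.Opens} (hW : IsAffineOpen W)
    {P : X'.Opens} (hP : IsAffineOpen P) (h : P ≤ g ⁻¹ᵁ W) :
    letI := (g.appLE W P h).hom.toAlgebra
    MJI (fun i => (secLin u W i).baseChange Γ(X', P)) := by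
  letI := (g.appLE W P h).hom.toAlgebra
  haveI : ((Scheme.Modules.pullback g).obj F).IsQuasicoherent := isQuasicoherent_pullback g F
  have hM := MJI_of_isSep hu hP
  letI := secModule g F h
  haveI : IsScalarTower Γ(X, W) Γ(X', P) Γ((Scheme.Modules.pullback g).obj F, P) :=
    IsScalarTower.of_algebraMap_smul fun _ _ => rfl
  have hF := isBaseChange_unitSec g F h hW hP
  intro a w hw
  obtain ⟨m, hm⟩ := hM a (hF.equiv w) fun i => by
    letI := secModule g (G i) h
    haveI : IsScalarTower Γ(X, W) Γ(X', P) Γ((Scheme.Modules.pullback g).obj (G i), P) :=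
      IsScalarTower.of_algebraMap_smul fun _ _ => rfl
    have hG := isBaseChange_unitSec g (G i) h hW hP
    have key : ∀ w, hG.equiv ((secLin u W i).baseChange Γ(X', P) w) =
        ((Scheme.Modules.pullback g).map (u i)).app P (hF.equiv w) := by
      intro w
      induction w using TensorProduct.induction_on with
      | zero => simp
      | tmul r m =>
        rw [LinearMap.baseChange_tmul, hG.equiv_tmul, hF.equiv_tmul, Scheme.Modules.Hom.app_smul]
        exact congrArg (r • ·) (unitSec_map g F h (u i) m).symm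
      | add p q hp hq => simp only [map_add, hp, hq]
    obtain ⟨m, hm⟩ := hw i
    refine ⟨m, ?_⟩
    show a ^ m • ((Scheme.Modules.pullback g).map (u i)).app P (hF.equiv w) = 0
    rw [← key, ← map_smul, hm, map_zero]
  exact ⟨m, hF.equiv.injective (by rw [map_smul, hm, map_zero])⟩

end Groth.Agent.SepFld
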