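import Groth.Agent.SepFld.Sheaf
import Groth.Agent.FlatSect.Basic
import Mathlib.AlgebraicGeometry.Pullbacks
import Mathlib.AlgebraicGeometry.Morphisms.Affine
import Mathlib.LinearAlgebra.TensorProduct.Quotient

/-!
# Separating families over an affine base
-/

set_option autoImplicit false
set_option linter.style.haveILetI false
universe u

open CategoryTheory AlgebraicGeometry TopologicalSpace Opposite
open Groth.Agent.Fibres16.Separating Groth.Agent.QCoh
open scoped TensorProduct

noncomputable section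

namespace Groth.Agent.SepFld

section Alg

variable {A C : Type u} [CommRing A] [CommRing C] [Algebra A C] {M : Type u} [AddCommGroup M]
  [Module C M] [Module A M] [IsScalarTower A C M] {ι : Type u} {N : ι → Type u}
  [∀ i, AddCommGroup (N i)] [∀ i, Module C (N i)] [∀ i, Module A (N i)]
  [∀ i, IsScalarTower A C (N i)] (φ : ∀ i, M →ₗ[C] N i)

/-- Joint injectivity after base change to an algebra. -/
abbrev MJIbc (C' : Type u) [CommRing C'] [Algebra C C'] : Prop := MJI (fun i => (φ i).baseChange C')

/-- Transport along an isomorphism of algebras. -/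
theorem MJI.of_algEquiv {C' C'' : Type u} [CommRing C'] [Algebra C C'] [CommRing C''] [Algebra C C'']
    (e : C' ≃ₐ[C] C'') (h : MJI (fun i => (φ i).baseChange C'')) :
    MJI (fun i => (φ i).baseChange C') := by
  let tr : ∀ (P : Type u) [AddCommGroup P] [Module C P], C' ⊗[C] P ≃ₗ[C] C'' ⊗[C] P := fun P _ _ =>
    TensorProduct.congr e.toLinearEquiv (LinearEquiv.refl C P)
  have hs : ∀ (P : Type u) [AddCommGroup P] [Module C P] (a : C') (w : C' ⊗[C] P),
      tr P (a • w) = e a • tr P w := by
    intro P _ _ a w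
    induction w using TensorProduct.induction_on with
    | zero => simp
    | tmul x p => simp [tr, TensorProduct.smul_tmul']
    | add p q hp hq => simp only [smul_add, map_add, hp, hq]
  have hn : ∀ i w, (φ i).baseChange C'' (tr M w) = tr (N i) ((φ i).baseChange C' w) := by
    intro i w
    induction w using TensorProduct.induction_on with
    | zero => simp
    | tmul x p => simp [tr]
    | add p q hp hq => simp only [map_add, hp, hq]
  intro a w hw
  obtain ⟨m, hm⟩ := h (e a) (tr M w) fun i => by
    obtain ⟨m, hm⟩ := hw i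
    refine ⟨m, ?_⟩
    show e a ^ m • (φ i).baseChange C'' (tr M w) = 0
    rw [hn, ← map_pow, ← hs, hm, map_zero]
  exact ⟨m, (tr M).injective (by rw [hs, map_pow, hm, map_zero])⟩

theorem eq_zero_of_free {R Q P : Type u} [CommRing R] [AddCommGroup Q] [Module R Q] [Module.Free R Q]
    [AddCommGroup P] [Module R P] {P' : ι → Type u} [∀ i, AddCommGroup (P' i)] [∀ i, Module R (P' i)]
    (ψ : ∀ i, P →ₗ[R] P' i) (hψ : ∀ x, (∀ i, ψ i x = 0) → x = 0) (w : Q ⊗[R] P)
    (hw : ∀ i, (ψ i).lTensor Q w = 0) : w = 0 := by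
  let b := Module.Free.chooseBasis R Q
  refine (TensorProduct.equivFinsuppOfBasisLeft b (N := P)).injective (Finsupp.ext fun t => ?_)
  rw [map_zero, Finsupp.zero_apply]
  refine hψ _ fun i => ?_
  have hnat : ∀ w, TensorProduct.equivFinsuppOfBasisLeft b (N := P' i) ((ψ i).lTensor Q w) t =
      ψ i (TensorProduct.equivFinsuppOfBasisLeft b (N := P) w t) := fun w => by
    induction w using TensorProduct.induction_on with
    | zero => simp
    | tmul x m => simp
    | add p q hp hq => simp only [map_add, Finsupp.add_apply, hp, hq]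
  rw [← hnat, hw i, map_zero, Finsupp.zero_apply]

/-- Limit over the finitely generated subalgebras. -/
theorem MJI.baseChange_of_fg {R : Type u} [CommRing R] [Algebra A R] (hN : ∀ i, Module.Flat A (N i))
    (h : ∀ S : Subalgebra A R, S.FG → MJIbc φ (C ⊗[A] S)) :
    MJIbc φ (C ⊗[A] R) := by
  classical
  let j : ∀ S : Subalgebra A R, C ⊗[A] S →ₐ[C] C ⊗[A] R := fun S =>
    Algebra.TensorProduct.map (AlgHom.id C C) S.val
  let J : ∀ (S : Subalgebra A R) (P : Type u) [AddCommGroup P] [Module C P],
      (C ⊗[A] S) ⊗[C] P →ₗ[C] (C ⊗[A] R) ⊗[C] P := fun S P _ _ => (j S).toLinearMap.rTensor P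
  have hR : ∀ y : C ⊗[A] R, ∃ s : Finset R, ∀ S : Subalgebra A R, (s : Set R) ⊆ S → ∃ y', j S y' = y := by
    intro y
    induction y using TensorProduct.induction_on with
    | zero => exact ⟨∅, fun S _ => ⟨0, map_zero _⟩⟩
    | tmul c r =>
      exact ⟨{r}, fun S hS => ⟨c ⊗ₜ[A] (⟨r, hS (Finset.mem_singleton_self r)⟩ : S), by simp [j]⟩⟩
    | add p q hp hq =>
      obtain ⟨s, hs⟩ := hp
      obtain ⟨t, ht⟩ := hq
      refine ⟨s ∪ t, fun S hS => ?_⟩
      obtain ⟨p', rfl⟩ := hs S (fun a ha => hS (Finset.mem_union_left _ ha))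
      obtain ⟨q', rfl⟩ := ht S (fun a ha => hS (Finset.mem_union_right _ ha))
      exact ⟨p' + q', map_add _ _ _⟩
  have hZ : ∀ y : (C ⊗[A] R) ⊗[C] M, ∃ s : Finset R, ∀ S : Subalgebra A R, (s : Set R) ⊆ S →
      ∃ y', J S M y' = y := by
    intro y
    induction y using TensorProduct.induction_on with
    | zero => exact ⟨∅, fun S _ => ⟨0, map_zero _⟩⟩
    | tmul c m =>
      obtain ⟨s, hs⟩ := hR c
      refine ⟨s, fun S hS => ?_⟩
      obtain ⟨c', rfl⟩ := hs S hS
      exact ⟨c' ⊗ₜ[C] m, by simp [J]⟩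
    | add p q hp hq =>
      obtain ⟨s, hs⟩ := hp
      obtain ⟨t, ht⟩ := hq
      refine ⟨s ∪ t, fun S hS => ?_⟩
      obtain ⟨p', rfl⟩ := hs S (fun a ha => hS (Finset.mem_union_left _ ha))
      obtain ⟨q', rfl⟩ := ht S (fun a ha => hS (Finset.mem_union_right _ ha))
      exact ⟨p' + q', map_add _ _ _⟩
  intro a z hz
  obtain ⟨s, hs⟩ := hR a
  obtain ⟨t, ht⟩ := hZ z
  let S := Algebra.adjoin A ((s ∪ t : Finset R) : Set R)
  obtain ⟨a', rfl⟩ := hs S (fun x hx => Algebra.subset_adjoin (Finset.mem_union_left _ hx))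
  obtain ⟨z', rfl⟩ := ht S (fun x hx => Algebra.subset_adjoin (Finset.mem_union_right _ hx))
  have hsmul : ∀ (P : Type u) [AddCommGroup P] [Module C P] (x : C ⊗[A] S) (w : (C ⊗[A] S) ⊗[C] P),
      J S P (x • w) = j S x • J S P w := by
    intro P _ _ x w
    induction w using TensorProduct.induction_on with
    | zero => simp
    | tmul y p => simp [J, TensorProduct.smul_tmul', map_mul]
    | add p q hp hq => simp only [smul_add, map_add, hp, hq]
  obtain ⟨m, hm⟩ := h S (Subalgebra.fg_adjoin_finset _) a' z' fun i => by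
    obtain ⟨m, hm⟩ := hz i
    refine ⟨m, ?_⟩
    have hinj : Function.Injective (J S (N i)) := by
      let e : ∀ (Q : Type u) [AddCommGroup Q] [Module A Q],
          (C ⊗[A] Q) ⊗[C] N i ≃ₗ[A] N i ⊗[A] Q := fun Q _ _ =>
        (TensorProduct.comm C (C ⊗[A] Q) (N i)).restrictScalars A ≪≫ₗ
          (TensorProduct.AlgebraTensorModule.cancelBaseChange A C C (N i) Q).restrictScalars A
      have hnat : ∀ w, e R (J S (N i) w) = (S.val.toLinearMap).lTensor (N i) (e S w) := by
        intro w
        induction w using TensorProduct.induction_on with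
        | zero => simp
        | tmul y p =>
          induction y using TensorProduct.induction_on with
          | zero => simp
          | tmul c r => simp [e, J, j]
          | add p' q' hp hq => simp only [TensorProduct.add_tmul, map_add, hp, hq]
        | add p q hp hq => simp only [map_add, hp, hq]
      intro w w' hw
      refine (e S).injective ?_
      haveI := hN i
      exact Module.Flat.lTensor_preserves_injective_linearMap (M := N i) S.val.toLinearMap
        Subtype.val_injective (by rw [← hnat, ← hnat, hw])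
    refine hinj ?_
    have hn : ∀ w, J S (N i) ((φ i).baseChange _ w) = (φ i).baseChange (C ⊗[A] R) (J S M w) := by
      intro w
      induction w using TensorProduct.induction_on with
      | zero => simp
      | tmul y p => simp [J]
      | add p q hp hq => simp only [map_add, hp, hq]
    show J S (N i) (a' ^ m • (φ i).baseChange _ z') = J S (N i) 0
    rw [hsmul, hn, map_pow, map_zero]
    exact hm
  exact ⟨m, by rw [← map_pow, ← hsmul, hm, map_zero]⟩

/-- Joint injectivity from joint injectivity modulo a nilpotent ideal with free graded pieces. -/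
theorem eq_zero_of_nilpotent (J : Ideal A) (hJ : IsNilpotent J)
    (hfree : ∀ k : ℕ, Module.Free (A ⧸ J) ((A ⧸ J) ⊗[A] ↥(J ^ k))) (hN : ∀ i, Module.Flat A (N i))
    (h : MJIbc φ (C ⊗[A] (A ⧸ J))) (x : M) (hx : ∀ i, φ i x = 0) : x = 0 := by
  classical
  -- joint injectivity modulo `J`
  have hmod : ∀ y : (A ⧸ J) ⊗[A] M,
      (∀ i, ((φ i).restrictScalars A).lTensor (A ⧸ J) y = 0) → y = 0 := by
    intro y hy
    let e : ∀ (P : Type u) [AddCommGroup P] [Module C P] [Module A P] [IsScalarTower A C P],
        (C ⊗[A] (A ⧸ J)) ⊗[C] P ≃ₗ[A] (A ⧸ J) ⊗[A] P := fun P _ _ _ _ =>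
      (TensorProduct.comm C (C ⊗[A] (A ⧸ J)) P).restrictScalars A ≪≫ₗ
        (TensorProduct.AlgebraTensorModule.cancelBaseChange A C C P (A ⧸ J)).restrictScalars A ≪≫ₗ
          TensorProduct.comm A P (A ⧸ J)
    have hnat : ∀ i w, e (N i) ((φ i).baseChange _ w) =
        ((φ i).restrictScalars A).lTensor (A ⧸ J) (e M w) := by
      intro i w
      induction w using TensorProduct.induction_on with
      | zero => simp
      | tmul c p =>
        induction c using TensorProduct.induction_on with
        | zero => simp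
        | tmul c r => simp [e]
        | add p' q' hp hq => simp only [TensorProduct.add_tmul, map_add, hp, hq]
      | add p q hp hq => simp only [map_add, hp, hq]
    obtain ⟨m, hm⟩ := h 1 ((e M).symm y) fun i => ⟨0, by
      rw [pow_zero, one_smul]
      refine (e (N i)).injective ?_
      rw [hnat, LinearEquiv.apply_symm_apply, hy i, map_zero]⟩
    rw [one_pow, one_smul] at hm
    rw [← (e M).apply_symm_apply y, hm, map_zero]
  let μ : ∀ (k : ℕ) (P : Type u) [AddCommGroup P] [Module A P], ↥(J ^ k) ⊗[A] P →ₗ[A] P :=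
    fun k P _ _ => (TensorProduct.lid A P).toLinearMap ∘ₗ (Submodule.subtype (J ^ k)).rTensor P
  have hrange : ∀ k : ℕ, ∀ y : M, y ∈ J ^ k • (⊤ : Submodule A M) → ∃ w, μ k M w = y := by
    intro k y hy
    induction hy using Submodule.smul_induction_on' with
    | smul r hr n _ => exact ⟨(⟨r, hr⟩ : ↥(J ^ k)) ⊗ₜ[A] n, by simp [μ]⟩
    | add p _ q _ hp hq =>
      obtain ⟨p', rfl⟩ := hp
      obtain ⟨q', rfl⟩ := hq
      exact ⟨p' + q', map_add _ _ _⟩
  have step : ∀ k : ℕ, x ∈ J ^ k • (⊤ : Submodule A M) → x ∈ J ^ (k + 1) • (⊤ : Submodule A M) := by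
    intro k hk
    obtain ⟨w, hw⟩ := hrange k x hk
    let q : ∀ (P : Type u) [AddCommGroup P] [Module A P],
        ↥(J ^ k) ⊗[A] P →ₗ[A] ((A ⧸ J) ⊗[A] ↥(J ^ k)) ⊗[A ⧸ J] ((A ⧸ J) ⊗[A] P) := fun P _ _ =>
      ((TensorProduct.AlgebraTensorModule.distribBaseChange A (A ⧸ J) ↥(J ^ k) P).restrictScalars A).toLinearMap ∘ₗ
        TensorProduct.mk A (A ⧸ J) (↥(J ^ k) ⊗[A] P) 1
    have hq : q M w = 0 := by
      haveI := hfree k
      refine eq_zero_of_free (R := A ⧸ J) (fun i => ((φ i).restrictScalars A).baseChange (A ⧸ J))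
        (fun y hy => hmod y fun i => hy i) _ fun i => ?_
      have hn : ∀ w, (((φ i).restrictScalars A).baseChange (A ⧸ J)).lTensor ((A ⧸ J) ⊗[A] ↥(J ^ k)) (q M w) =
          q (N i) (((φ i).restrictScalars A).lTensor ↥(J ^ k) w) := by
        intro w
        induction w using TensorProduct.induction_on with
        | zero => simp
        | tmul r p => simp [q]
        | add p' q' hp hq => simp only [map_add, hp, hq]
      have hzero : ((φ i).restrictScalars A).lTensor ↥(J ^ k) w = 0 := by
        haveI := hN i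
        refine (Module.Flat.rTensor_preserves_injective_linearMap (M := N i) _
          (Submodule.injective_subtype (J ^ k))) ((TensorProduct.lid A (N i)).injective ?_)
        rw [map_zero, map_zero]
        have e1 : ∀ w, μ k (N i) (((φ i).restrictScalars A).lTensor ↥(J ^ k) w) = φ i (μ k M w) := by
          intro w
          induction w using TensorProduct.induction_on with
          | zero => simp
          | tmul r p => simp [μ]
          | add p' q' hp hq => simp only [map_add, hp, hq]
        exact (e1 w).trans (by rw [hw]; exact hx i)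
      rw [hn, hzero, map_zero]
    have h1 : (1 : A ⧸ J) ⊗ₜ[A] w = 0 :=
      (TensorProduct.AlgebraTensorModule.distribBaseChange A (A ⧸ J) ↥(J ^ k) M).injective
        (hq.trans (map_zero _).symm)
    have h2 : w ∈ J • (⊤ : Submodule A (↥(J ^ k) ⊗[A] M)) := by
      have h3 := congrArg (TensorProduct.quotTensorEquivQuotSMul (↥(J ^ k) ⊗[A] M) J) h1
      rw [map_zero, ← map_one (Ideal.Quotient.mk J), TensorProduct.quotTensorEquivQuotSMul_mk_tmul,
        one_smul] at h3
      exact (Submodule.Quotient.mk_eq_zero _).mp h3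
    rw [← hw]
    have h4 : Submodule.map (μ k M) (J • ⊤) ≤ J ^ (k + 1) • (⊤ : Submodule A M) := by
      rw [Submodule.map_smul'', pow_succ', Submodule.mul_smul]
      refine Submodule.smul_mono le_rfl ?_
      rintro _ ⟨v, -, rfl⟩
      induction v using TensorProduct.induction_on with
      | zero => simp
      | tmul r p =>
        simpa [μ] using Submodule.smul_mem_smul r.2 (Submodule.mem_top (x := p))
      | add p' q' hp hq => rw [map_add]; exact add_mem hp hq
    exact h4 ⟨w, h2, rfl⟩
  obtain ⟨n, hn⟩ := hJ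
  have hall : ∀ k, x ∈ J ^ k • (⊤ : Submodule A M) := fun k => by
    induction k with
    | zero => simp
    | succ k ih => exact step k ih
  simpa [hn] using hall n

end Alg

section Geometry

variable {X : Scheme.{u}} {A : CommRingCat.{u}} (p : X ⟶ Spec A)

/-- The ring map from an affine base. -/
def baseHom (W : X.Opens) : A ⟶ Γ(X, W) :=
  (Scheme.ΓSpecIso A).inv ≫ p.appLE ⊤ W (fun _ _ => trivial)

set_option backward.isDefEq.respectTransparency.types false in
/-- The affine pieces of a base change along a map of affine base schemes. -/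
theorem piece {B : CommRingCat.{u}} (a : A ⟶ B) {W : X.Opens} (hW : IsAffineOpen W) :
    letI := (baseHom p W).hom.toAlgebra
    letI := a.hom.toAlgebra
    letI := ((Limits.pullback.fst p (Spec.map a)).appLE W
      (Limits.pullback.fst p (Spec.map a) ⁻¹ᵁ W) le_rfl).hom.toAlgebra
    IsAffineOpen (Limits.pullback.fst p (Spec.map a) ⁻¹ᵁ W) ∧
      Nonempty ((Γ(X, W) ⊗[A] B) ≃ₐ[Γ(X, W)]
        Γ(Limits.pullback p (Spec.map a), Limits.pullback.fst p (Spec.map a) ⁻¹ᵁ W)) := by
  haveI hBA : IsAffineHom (Spec.map a) := inferInstance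
  haveI hA : IsAffineHom (Limits.pullback.fst p (Spec.map a)) := MorphismProperty.pullback_fst _ _ hBA
  refine ⟨hW.preimage _, ?_⟩
  letI := (baseHom p W).hom.toAlgebra
  letI := a.hom.toAlgebra
  letI := ((Limits.pullback.fst p (Spec.map a)).appLE W
    (Limits.pullback.fst p (Spec.map a) ⁻¹ᵁ W) le_rfl).hom.toAlgebra
  have H := IsPullback.of_hasPullback p (Spec.map a)
  have eW : W ≤ p ⁻¹ᵁ ⊤ := fun _ _ => trivial
  have eW' : (⊤ : (Spec B).Opens) ≤ Spec.map a ⁻¹ᵁ ⊤ := fun _ _ => trivial
  have hY : Limits.pullback.fst p (Spec.map a) ⁻¹ᵁ W =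
      Limits.pullback.fst p (Spec.map a) ⁻¹ᵁ W ⊓ Limits.pullback.snd p (Spec.map a) ⁻¹ᵁ ⊤ := by simp
  have h := (isIso_pushoutSection_iff H eW' eW hY).mp (isIso_pushoutSection_of_isAffineOpen H eW' eW hY
    (isAffineOpen_top _) (isAffineOpen_top _) hW)
  have hsec : (Spec.map a).appLE ⊤ ⊤ eW' = (Scheme.ΓSpecIso A).hom ≫ a ≫ (Scheme.ΓSpecIso B).inv := by
    rw [← Scheme.ΓSpecIso_naturality_assoc, Iso.hom_inv_id, Category.comp_id]
    rw [Scheme.Hom.appLE]
    exact (congrArg ((Spec.map a).app ⊤ ≫ ·) ((Spec B).presheaf.map_id _)).trans (Category.comp_id _)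
  have h' : IsPushout (baseHom p W) a
      ((Limits.pullback.fst p (Spec.map a)).appLE W (Limits.pullback.fst p (Spec.map a) ⁻¹ᵁ W) le_rfl)
      ((Scheme.ΓSpecIso B).inv ≫ (Limits.pullback.snd p (Spec.map a)).appLE ⊤
        (Limits.pullback.fst p (Spec.map a) ⁻¹ᵁ W) (fun _ _ => trivial)) := by
    refine IsPushout.of_iso h (Scheme.ΓSpecIso A) (Iso.refl _) (Scheme.ΓSpecIso B) (Iso.refl _)
      ?_ ?_ ?_ ?_
    · simp [baseHom]
    · rw [hsec]; simp
    · simp
    · simp
  let h₀ := CommRingCat.isPushout_tensorProduct A Γ(X, W) B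
  let e := h₀.isoIsPushout _ _ h'
  exact ⟨AlgEquiv.ofRingEquiv (f := e.commRingCatIsoToRingEquiv) fun c =>
    congr($(h₀.inl_isoIsPushout_hom _ _ h') c)⟩

/-- Flatness over an affine base, on sections. -/
theorem flat_sections_base {G : X.Modules} [G.IsQuasicoherent] (hG : FlatMod.IsFlatOver p G)
    {W : X.Opens} (hW : IsAffineOpen W) :
    letI : Module A Γ(G, W) := Module.compHom _ (baseHom p W).hom
    Module.Flat A Γ(G, W) := by
  have h := FlatSect.flat_sections_of_isFlatOverAt p (isAffineOpen_top (Spec A)) hW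
    (fun _ _ => trivial) G (fun x _ => hG x)
  letI : Module Γ(Spec A, ⊤) Γ(G, W) :=
    Module.compHom _ (p.appLE ⊤ W (fun _ _ => trivial)).hom
  letI : Module A Γ(G, W) := Module.compHom _ (baseHom p W).hom
  exact (FlatSect.flat_iff_of_ringEquiv Γ(G, W)
    (Scheme.ΓSpecIso A).symm.commRingCatIsoToRingEquiv (fun _ _ => rfl)).mpr h

variable {F : X.Modules} [F.IsQuasicoherent] {ι : Type u} {G : ι → X.Modules}
  [∀ i, (G i).IsQuasicoherent]

/-- A separating base change, on the tensor products of sections. -/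
theorem MJI_of_baseChange {B : CommRingCat.{u}} (a : A ⟶ B) {u : ∀ i, F ⟶ G i}
    (hu : IsSep (fun i => (Scheme.Modules.pullback (Limits.pullback.fst p (Spec.map a))).map (u i)))
    {W : X.Opens} (hW : IsAffineOpen W) :
    letI := (baseHom p W).hom.toAlgebra
    letI := a.hom.toAlgebra
    MJIbc (secLin u W) (Γ(X, W) ⊗[A] B) := by
  letI := (baseHom p W).hom.toAlgebra
  letI := a.hom.toAlgebra
  obtain ⟨hP, ⟨e⟩⟩ := piece p a hW
  letI := ((Limits.pullback.fst p (Spec.map a)).appLE W
      (Limits.pullback.fst p (Spec.map a) ⁻¹ᵁ W) le_rfl).hom.toAlgebra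
  exact MJI.of_algEquiv _ e (MJI_baseChange_of_isSep _ hu hW hP le_rfl)

/-- A separating base change to an algebra, on the tensor products of sections. -/
theorem MJI_of_baseChange_algebra (B : Type u) [CommRing B] [inst : Algebra A B] {u : ∀ i, F ⟶ G i}
    (hu : IsSep (fun i => (Scheme.Modules.pullback (Limits.pullback.fst p
      (Spec.map (CommRingCat.ofHom (algebraMap A B))))).map (u i)))
    {W : X.Opens} (hW : IsAffineOpen W) :
    letI := (baseHom p W).hom.toAlgebra
    MJIbc (secLin u W) (Γ(X, W) ⊗[A] B) := by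
  have h := MJI_of_baseChange p (B := CommRingCat.of B) (CommRingCat.ofHom (algebraMap A B)) hu hW
  have he : (CommRingCat.ofHom (algebraMap A B)).hom.toAlgebra = inst :=
    Algebra.algebra_ext _ _ fun _ => rfl
  dsimp only at h
  rw [he] at h
  exact h

end Geometry

end Groth.Agent.SepFld
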