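import Groth.Agent.SchDom.Ring
import Groth.Agent.FlatCx.Linear
import Mathlib.Algebra.TrivSqZeroExt.Basic

/-!
# Families of linear maps jointly injective on every basic open
-/

set_option autoImplicit false
set_option linter.style.haveILetI false
universe u
open scoped TensorProduct

noncomputable section

namespace Groth.Agent.SepFld

/-- A family of linear maps is jointly injective on every basic open. -/
def MJI {A M : Type u} [CommRing A] [AddCommGroup M] [Module A M] {ι : Type u} {N : ι → Type u}
    [∀ i, AddCommGroup (N i)] [∀ i, Module A (N i)] (φ : ∀ i, M →ₗ[A] N i) : Prop :=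
  ∀ (h : A) (x : M), (∀ i, ∃ m : ℕ, h ^ m • φ i x = 0) → ∃ m : ℕ, h ^ m • x = 0

variable {A M : Type u} [CommRing A] [AddCommGroup M] [Module A M] {ι : Type u} {N : ι → Type u}
    [∀ i, AddCommGroup (N i)] [∀ i, Module A (N i)] (φ : ∀ i, M →ₗ[A] N i)

/-- The opposite action. -/
@[reducible] def opModule (A M : Type u) [CommRing A] [AddCommGroup M] [Module A M] : Module Aᵐᵒᵖ M :=
  Module.compHom M (RingEquiv.toOpposite A).symm.toRingHom

theorem isCentralScalar (A M : Type u) [CommRing A] [AddCommGroup M] [Module A M] :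
    letI := opModule A M
    IsCentralScalar A M :=
  letI := opModule A M
  ⟨fun _ _ => rfl⟩

theorem MJI.baseChange_field {k R A' : Type u} [Field k] [Algebra k A] [CommRing R] [Algebra k R]
    [CommRing A'] [Algebra A A'] (e : R ⊗[k] A ≃+* A') (he : ∀ a : A, e (1 ⊗ₜ a) = algebraMap A A' a)
    (hφ : MJI φ) : MJI (fun i => (φ i).baseChange A') := by
  rcases isEmpty_or_nonempty ι with hι | ⟨⟨i₀⟩⟩
  · have hM : ∀ x : M, x = 0 := fun x => by
      obtain ⟨m, hm⟩ := hφ 1 x isEmptyElim
      rwa [one_pow, one_smul] at hm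
    haveI : Subsingleton M := ⟨fun a b => (hM a).trans (hM b).symm⟩
    exact fun h x _ => ⟨0, Subsingleton.elim _ _⟩
  letI : Module Aᵐᵒᵖ M := opModule A M
  haveI : IsCentralScalar A M := isCentralScalar A M
  letI : ∀ i, Module Aᵐᵒᵖ (N i) := fun i => opModule A (N i)
  haveI : ∀ i, IsCentralScalar A (N i) := fun i => isCentralScalar A (N i)
  letI : Module k M := Module.compHom M (algebraMap k A)
  haveI : IsScalarTower k A M := IsScalarTower.of_algebraMap_smul fun _ _ => rfl
  letI : ∀ i, Module k (N i) := fun i => Module.compHom (N i) (algebraMap k A)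
  haveI : ∀ i, IsScalarTower k A (N i) := fun i => IsScalarTower.of_algebraMap_smul fun _ _ => rfl
  haveI : IsScalarTower k Aᵐᵒᵖ M :=
    ⟨fun c a x => by
      show (c • a).unop • x = c • a.unop • x
      rw [MulOpposite.unop_smul, smul_assoc]⟩
  haveI : ∀ i, IsScalarTower k Aᵐᵒᵖ (N i) := fun i =>
    ⟨fun c a x => by
      show (c • a).unop • x = c • a.unop • x
      rw [MulOpposite.unop_smul, smul_assoc]⟩
  let B := TrivSqZeroExt A M
  let f : ∀ i, B →ₐ[k] TrivSqZeroExt A (N i) := fun i => (TrivSqZeroExt.map (φ i)).restrictScalars k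
  have hJI : SchDom.JI (fun i => (f i).toRingHom) := by
    intro h b hb
    obtain ⟨m₀, hm₀⟩ := hb i₀
    have h1 : (h ^ m₀ * b).fst = 0 := by
      have h1' := congrArg TrivSqZeroExt.fst hm₀
      have e1 : ((f i₀).toRingHom (h ^ m₀ * b)).fst = (h ^ m₀ * b).fst :=
        TrivSqZeroExt.fst_map (φ i₀) _
      exact e1.symm.trans h1'
    have hfst : ∀ m, (h ^ m * (h ^ m₀ * b)).snd = h.fst ^ m • (h ^ m₀ * b).snd := fun m => by
      rw [TrivSqZeroExt.snd_mul, h1, TrivSqZeroExt.fst_pow]
      simp
    obtain ⟨n, hn⟩ := hφ h.fst (h ^ m₀ * b).snd fun i => by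
      obtain ⟨m, hm⟩ := hb i
      refine ⟨m, ?_⟩
      have h2 := congrArg TrivSqZeroExt.snd (show (f i).toRingHom (h ^ m * (h ^ m₀ * b)) = 0 by
        rw [mul_left_comm, map_mul, hm, mul_zero])
      have e2 : ((f i).toRingHom (h ^ m * (h ^ m₀ * b))).snd = φ i (h ^ m * (h ^ m₀ * b)).snd :=
        TrivSqZeroExt.snd_map (φ i) _
      rw [e2, hfst, map_smul] at h2
      exact h2
    refine ⟨n + m₀, ?_⟩
    rw [pow_add, mul_assoc]
    refine TrivSqZeroExt.ext ?_ ?_
    · rw [TrivSqZeroExt.fst_mul, h1, mul_zero, TrivSqZeroExt.fst_zero]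
    · rw [hfst, hn, TrivSqZeroExt.snd_zero]
  have hBC := SchDom.JI_univ_field f hJI R
  intro h z hz
  let j : A' →+* R ⊗[k] B :=
    ((Algebra.TensorProduct.map (AlgHom.id k R)
      ((TrivSqZeroExt.inlAlgHom k A M))).toRingHom).comp e.symm.toRingHom
  have hj : ∀ a : A, j (algebraMap A A' a) = (1 : R) ⊗ₜ[k] (TrivSqZeroExt.inl a : B) := fun a => by
    simp [j, ← he]
  letI : Module A' (R ⊗[k] B) := Module.compHom _ j
  letI : Module A (R ⊗[k] B) := Module.compHom _ (j.comp (algebraMap A A'))
  haveI : IsScalarTower A A' (R ⊗[k] B) := IsScalarTower.of_algebraMap_smul fun _ _ => rfl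
  let inr' : M →ₗ[A] R ⊗[k] B :=
    { toFun := fun m => (1 : R) ⊗ₜ[k] (TrivSqZeroExt.inr m : B)
      map_add' := fun a b => by rw [TrivSqZeroExt.inr_add, TensorProduct.tmul_add]
      map_smul' := fun a m => by
        show _ = j (algebraMap A A' a) * (1 : R) ⊗ₜ[k] (TrivSqZeroExt.inr m : B)
        rw [hj, Algebra.TensorProduct.tmul_mul_tmul, one_mul, TrivSqZeroExt.inl_mul_inr] }
  let J : A' ⊗[A] M →ₗ[A'] R ⊗[k] B := inr'.liftBaseChange A'
  have hJsmul : ∀ (a : A') (w : A' ⊗[A] M), J (a • w) = j a * J w := fun a w => map_smul J a w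
  letI : Algebra k A' := ((algebraMap A A').comp (algebraMap k A)).toAlgebra
  haveI : IsScalarTower k A A' := IsScalarTower.of_algebraMap_eq fun _ => rfl
  let er : R →ₗ[k] A' :=
    { toFun := fun r => e (r ⊗ₜ[k] (1 : A))
      map_add' := fun r s => by rw [TensorProduct.add_tmul, map_add]
      map_smul' := fun c r => by
        rw [RingHom.id_apply, Algebra.smul_def (A := A'), IsScalarTower.algebraMap_apply k A A',
          ← he, ← map_mul, Algebra.TensorProduct.tmul_mul_tmul, one_mul, mul_one]
        congr 1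
        rw [TensorProduct.smul_tmul, Algebra.smul_def, mul_one] }
  let L : R ⊗[k] B →ₗ[k] A' ⊗[A] M :=
    TensorProduct.lift (((TensorProduct.mk A A' M).restrictScalars₁₂ k k).compl₂
      ((TrivSqZeroExt.sndHom A M).restrictScalars k) ∘ₗ er)
  have hL : ∀ w, L (J w) = w := fun w => by
    induction w using TensorProduct.induction_on with
    | zero => simp
    | tmul a' m =>
      obtain ⟨y, rfl⟩ := e.surjective a'
      induction y using TensorProduct.induction_on with
      | zero => simp
      | tmul r a =>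
        have h1 : J (e (r ⊗ₜ[k] a) ⊗ₜ[A] m) = r ⊗ₜ[k] (TrivSqZeroExt.inr (a • m) : B) := by
          show j (e (r ⊗ₜ[k] a)) * ((1 : R) ⊗ₜ[k] (TrivSqZeroExt.inr m : B)) = _
          simp [j, Algebra.TensorProduct.tmul_mul_tmul, TrivSqZeroExt.inl_mul_inr]
        rw [h1]
        show e (r ⊗ₜ[k] (1 : A)) ⊗ₜ[A] ((TrivSqZeroExt.inr (a • m) : B)).snd = _
        rw [TrivSqZeroExt.snd_inr, TensorProduct.tmul_smul, TensorProduct.smul_tmul']
        congr 1
        rw [Algebra.smul_def, ← he, ← map_mul, Algebra.TensorProduct.tmul_mul_tmul, one_mul, mul_one]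
      | add p q hp hq => rw [map_add, TensorProduct.add_tmul, map_add, map_add, hp, hq]
    | add p q hp hq => rw [map_add, map_add, hp, hq]
  obtain ⟨n, hn⟩ := hBC (j h) (J z) fun i => by
    obtain ⟨m, hm⟩ := hz i
    refine ⟨m, ?_⟩
    show (SchDom.BC k R (f i)) (j h ^ m * J z) = 0
    rw [← map_pow, ← hJsmul]
    letI : Module A' (R ⊗[k] TrivSqZeroExt A (N i)) :=
      Module.compHom _ ((SchDom.BC k R (f i)).toRingHom.comp j)
    have key : ∀ w : A' ⊗[A] M, (φ i).baseChange A' w = 0 → SchDom.BC k R (f i) (J w) = 0 := by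
      letI : Module A (R ⊗[k] TrivSqZeroExt A (N i)) :=
        Module.compHom _ (((SchDom.BC k R (f i)).toRingHom.comp j).comp (algebraMap A A'))
      haveI : IsScalarTower A A' (R ⊗[k] TrivSqZeroExt A (N i)) :=
        IsScalarTower.of_algebraMap_smul fun _ _ => rfl
      let inrN : N i →ₗ[A] R ⊗[k] TrivSqZeroExt A (N i) :=
        { toFun := fun m => (1 : R) ⊗ₜ[k] (TrivSqZeroExt.inr m : TrivSqZeroExt A (N i))
          map_add' := fun a b => by rw [TrivSqZeroExt.inr_add, TensorProduct.tmul_add]
          map_smul' := fun a m => by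
            show _ = SchDom.BC k R (f i) (j (algebraMap A A' a)) *
              (1 : R) ⊗ₜ[k] (TrivSqZeroExt.inr m : TrivSqZeroExt A (N i))
            rw [hj]
            simp only [SchDom.BC, Algebra.TensorProduct.map_tmul, Algebra.TensorProduct.tmul_mul_tmul]
            rw [show f i (TrivSqZeroExt.inl a : B) = TrivSqZeroExt.inl a from
              TrivSqZeroExt.map_inl (φ i) a, TrivSqZeroExt.inl_mul_inr]
            simp }
      intro w hw
      have h2 : ∀ w, SchDom.BC k R (f i) (J w) = inrN.liftBaseChange A' ((φ i).baseChange A' w) := by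
        intro w
        induction w using TensorProduct.induction_on with
        | zero => simp
        | tmul a m =>
          show SchDom.BC k R (f i) (j a * ((1 : R) ⊗ₜ[k] (TrivSqZeroExt.inr m : B))) =
            SchDom.BC k R (f i) (j a) * ((1 : R) ⊗ₜ[k] (TrivSqZeroExt.inr (φ i m) : TrivSqZeroExt A (N i)))
          rw [map_mul]
          congr 1
          simp only [SchDom.BC, Algebra.TensorProduct.map_tmul]
          rw [show f i (TrivSqZeroExt.inr m : B) = TrivSqZeroExt.inr (φ i m) from
            TrivSqZeroExt.map_inr (φ i) m]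
          simp
        | add p q hp hq => simp only [map_add, hp, hq]
      rw [h2, hw, map_zero]
    exact key _ (by rw [map_smul]; exact hm)
  refine ⟨n, ?_⟩
  rw [← hL (h ^ n • z), hJsmul, map_pow]
  show L (j h ^ n * J z) = 0
  rw [hn, map_zero]

/-- Flat extensions of an Artinian local ring preserve joint injectivity on basic opens. -/
theorem MJI.baseChange_artinian [IsLocalRing A] [IsArtinianRing A] (A' : Type u) [CommRing A']
    [Algebra A A'] [Module.Flat A A'] (hφ : ∀ x : M, (∀ i, φ i x = 0) → x = 0) :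
    MJI (fun i => (φ i).baseChange A') := by
  intro h z hz
  let L := Localization.Away h
  haveI : Module.Flat A L := Module.Flat.trans A A' L
  haveI : Module.Free A L := Groth.Agent.FlatCx.free_of_artinian
    (Module.Flat.lTensor_preserves_injective_linearMap _ (Submodule.injective_subtype _))
  let b := Module.Free.chooseBasis A L
  let res : A' ⊗[A] M →ₗ[A'] L ⊗[A] M :=
    TensorProduct.AlgebraTensorModule.map (Algebra.linearMap A' L) (LinearMap.id : M →ₗ[A] M)
  have hres : res z = 0 := by
    let e := TensorProduct.equivFinsuppOfBasisLeft b (N := M)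
    refine e.injective (Finsupp.ext fun t => ?_)
    rw [map_zero, Finsupp.zero_apply]
    refine hφ _ fun i => ?_
    obtain ⟨m, hm⟩ := hz i
    have hnat : ∀ w : L ⊗[A] M, TensorProduct.equivFinsuppOfBasisLeft b (N := N i) ((φ i).lTensor L w) t =
        φ i (e w t) := fun w => by
      induction w using TensorProduct.induction_on with
      | zero => simp
      | tmul x m => simp [e]
      | add p q hp hq => simp only [map_add, Finsupp.add_apply, hp, hq]
    rw [← hnat]
    have h1 : (φ i).lTensor L (res z) = 0 := by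
      let resN : A' ⊗[A] N i →ₗ[A'] L ⊗[A] N i :=
        TensorProduct.AlgebraTensorModule.map (Algebra.linearMap A' L) (LinearMap.id : N i →ₗ[A] N i)
      have hc : ∀ w, (φ i).lTensor L (res w) = resN ((φ i).baseChange A' w) := fun w => by
        induction w using TensorProduct.induction_on with
        | zero => simp
        | tmul x m => simp [res, resN]
        | add p q hp hq => simp only [map_add, hp, hq]
      have hlin : ∀ (a : A') (w : A' ⊗[A] N i), resN (a • w) = algebraMap A' L a • resN w :=
        fun a w => (map_smul resN a w).trans (algebraMap_smul L a (resN w)).symm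
      have h2 : resN ((φ i).baseChange A' z) = 0 := by
        have h3 := congrArg resN hm
        rw [hlin, map_zero, map_pow] at h3
        exact ((IsLocalization.Away.algebraMap_isUnit (S := L) h).pow m).smul_eq_zero.mp h3
      rw [hc, h2]
    rw [h1, map_zero, Finsupp.zero_apply]
  let c := TensorProduct.AlgebraTensorModule.cancelBaseChange A A' A' L M
  have hc : res z = c ((1 : L) ⊗ₜ[A'] z) := by
    clear hres hz
    induction z using TensorProduct.induction_on with
    | zero => simp
    | tmul x m =>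
      simp [c, res, Algebra.smul_def]
    | add p q hp hq => rw [map_add, TensorProduct.tmul_add, map_add, hp, hq]
  have h0 : TensorProduct.mk A' L (A' ⊗[A] M) 1 z = 0 :=
    c.injective ((hc.symm.trans hres).trans (map_zero c).symm)
  obtain ⟨⟨_, m, rfl⟩, hm⟩ := (IsLocalizedModule.eq_zero_iff (Submonoid.powers h)
    (TensorProduct.mk A' L (A' ⊗[A] M) 1)).mp h0
  exact ⟨m, hm⟩

end Groth.Agent.SepFld
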